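import Mathlib
import Cfsg.Agent.Lib.Involution.NormalFour

/-!
# Lemmas for groups with cyclic intersections of Sylow 2-subgroups
-/

set_option autoImplicit false
set_option linter.style.haveILetI false

namespace Cfsg.Agent.CyclicInter17

open Subgroup

variable {G : Type*} [Group G] [Finite G]

/-- Subgroups of a finite cyclic group are ordered by their orders. -/
theorem le_of_card_dvd {W H K : Subgroup G} [IsCyclic W] (hH : H ≤ W) (hK : K ≤ W)
    (h : Nat.card H ∣ Nat.card K) : H ≤ K := by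
  classical
  haveI : Fintype W := Fintype.ofFinite _
  intro x hx
  have hS := IsCyclic.card_pow_eq_one_le (α := W) (n := Nat.card K) Nat.card_pos
  let S : Finset W := Finset.univ.filter fun w => w ^ Nat.card K = 1
  let T : Finset W := Finset.univ.filter fun w => (w : G) ∈ K
  have hTS : T ⊆ S := by
    intro w hw
    simp only [S, T, Finset.mem_filter, Finset.mem_univ, true_and] at hw ⊢
    have h1 := congrArg (fun k : K => (k : G)) (pow_card_eq_one' (x := (⟨(w : G), hw⟩ : K)))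
    simp only [SubmonoidClass.coe_pow, OneMemClass.coe_one] at h1
    exact Subtype.ext (by simpa only [SubmonoidClass.coe_pow, OneMemClass.coe_one] using h1)
  have hT : T.card = Nat.card K := by
    rw [← Nat.card_eq_finsetCard]
    exact Nat.card_congr
      { toFun := fun w => ⟨(w.1 : G), by
          have := w.2; simp only [T, Finset.mem_filter] at this; exact this.2⟩
        invFun := fun k => ⟨⟨k.1, hK k.2⟩, by simp [T]⟩
        left_inv := fun w => rfl
        right_inv := fun k => rfl }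
  have heq : T = S := Finset.eq_of_subset_of_card_le hTS (hS.trans hT.ge)
  have hmem : (⟨x, hH hx⟩ : W) ∈ S := by
    simp only [S, Finset.mem_filter, Finset.mem_univ, true_and]
    obtain ⟨m, hm⟩ := h
    have h1 : (⟨x, hx⟩ : H) ^ Nat.card K = 1 :=
      orderOf_dvd_iff_pow_eq_one.mp ((_root_.orderOf_dvd_natCard _).trans ⟨m, hm⟩)
    have h2 := congrArg (fun k : H => (k : G)) h1
    simp only [SubmonoidClass.coe_pow, OneMemClass.coe_one] at h2
    exact Subtype.ext (by simpa only [SubmonoidClass.coe_pow, OneMemClass.coe_one] using h2)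
  rw [← heq] at hmem
  simpa [T] using hmem

/-- The only square roots of one in a cyclic group are `1` and its involution. -/
theorem eq_one_or_eq {W : Subgroup G} [IsCyclic W] {z w : G} (hz : orderOf z = 2) (hzW : z ∈ W)
    (hw : w ∈ W) (hw2 : w * w = 1) : w = 1 ∨ w = z := by
  by_cases h1 : w = 1
  · exact Or.inl h1
  right
  have ho : orderOf w = 2 := Involution.orderOf_eq_two_iff'.mpr ⟨hw2, h1⟩
  have hle : zpowers w ≤ zpowers z :=
    le_of_card_dvd (W := W) (zpowers_le.mpr hw) (zpowers_le.mpr hzW)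
      (by rw [Nat.card_zpowers, Nat.card_zpowers, ho, hz])
  obtain ⟨i, hi⟩ := hle (mem_zpowers w)
  simp only at hi
  rcases Int.even_or_odd i with ⟨j, rfl⟩ | ⟨j, rfl⟩
  · exfalso; apply h1
    rw [← hi, ← two_mul, zpow_mul, zpow_two, Involution.mul_self_of_orderOf hz, one_zpow]
  · rw [← hi, zpow_add_one, zpow_mul, zpow_two, Involution.mul_self_of_orderOf hz, one_zpow, one_mul]

/-- An element centralising a cyclic subgroup of order divisible by four inverts no element of
order at least four in a cyclic 2-overgroup. -/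
theorem mul_self_of_inverted {V W : Subgroup G} [IsCyclic W] (hWp : IsPGroup 2 W) (hVW : V ≤ W)
    (hV4 : 4 ∣ Nat.card V) {b : G} (hbV : ∀ v ∈ V, b * v = v * b) {k : G} (hk : k ∈ W)
    (hinv : b⁻¹ * k * b * k = 1) : k * k = 1 := by
  by_contra hne
  obtain ⟨j, hj⟩ := IsPGroup.iff_orderOf.mp hWp ⟨k, hk⟩
  rw [← Subgroup.orderOf_coe] at hj
  simp only at hj
  match j, hj with
  | 0, hj =>
    rw [pow_zero, orderOf_eq_one_iff] at hj
    exact hne (by rw [hj, one_mul])
  | 1, hj =>
    rw [pow_one] at hj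
    exact hne (Involution.mul_self_of_orderOf hj)
  | i + 2, hj =>
    have hu : orderOf (k ^ 2 ^ i) = 4 := by
      rw [orderOf_pow' _ (pow_ne_zero _ two_ne_zero), hj,
        Nat.gcd_eq_right (pow_dvd_pow 2 (Nat.le_add_right i 2)), pow_add,
        Nat.mul_div_cancel_left _ (Nat.two_pow_pos i)]
      rfl
    have huV : k ^ 2 ^ i ∈ V :=
      le_of_card_dvd (W := W) (zpowers_le.mpr (pow_mem hk _)) hVW
        (by rw [Nat.card_zpowers, hu]; exact hV4) (mem_zpowers _)
    have h1 : b⁻¹ * k ^ 2 ^ i * b = (k ^ 2 ^ i)⁻¹ := by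
      have h2 : b⁻¹ * k * b = k⁻¹ := eq_inv_of_mul_eq_one_left hinv
      have h3 : (b⁻¹ * k * b) ^ 2 ^ i = b⁻¹ * k ^ 2 ^ i * b := by
        simpa using (conj_pow (i := 2 ^ i) (a := b⁻¹) (b := k))
      rw [← h3, h2, inv_pow]
    rw [mul_assoc, ← hbV _ huV, inv_mul_cancel_left] at h1
    have h5 : k ^ 2 ^ i * k ^ 2 ^ i = 1 := by
      nth_rewrite 2 [h1]
      exact mul_inv_cancel _
    have h4 : orderOf (k ^ 2 ^ i) ∣ 2 := orderOf_dvd_of_pow_eq_one (by rw [pow_two]; exact h5)
    rw [hu] at h4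
    norm_num at h4

/-- In a cyclic 2-group normalised by `b`, every non-generator is of the form `b⁻¹ w b w`. -/
theorem exists_inv_mul {V W : Subgroup G} [IsCyclic W] (hWp : IsPGroup 2 W) (hVW : V ≤ W)
    (hV4 : 4 ∣ Nat.card V) {b : G} (hbW : ∀ w ∈ W, b⁻¹ * w * b ∈ W)
    (hbV : ∀ v ∈ V, b * v = v * b) {c : G} (hc : c ∈ W) :
    zpowers c = W ∨ ∃ w ∈ W, b⁻¹ * w * b * w = c := by
  haveI : Fact (Nat.Prime 2) := ⟨Nat.prime_two⟩
  by_cases hgen : zpowers c = W
  · exact Or.inl hgen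
  right
  letI : CommGroup W := IsCyclic.commGroup
  let f : W →* W :=
    { toFun := fun w => (⟨b⁻¹ * w * b, hbW w w.2⟩ : W) * w
      map_one' := Subtype.ext (by simp)
      map_mul' := fun x y => by
        have : (⟨b⁻¹ * ((x * y : W) : G) * b, hbW _ (x * y).2⟩ : W) =
            ⟨b⁻¹ * x * b, hbW x x.2⟩ * ⟨b⁻¹ * y * b, hbW y y.2⟩ := Subtype.ext (by
              simp only [Subgroup.coe_mul]; group)
        rw [this]
        exact mul_mul_mul_comm _ _ _ _ }
  have hker : Nat.card f.ker ≤ 2 := by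
    haveI : Fintype W := Fintype.ofFinite _
    classical
    have hsub : ∀ w : W, w ∈ f.ker → w ^ 2 = 1 := fun w hw => by
      rw [pow_two]
      exact Subtype.ext (mul_self_of_inverted hWp hVW hV4 hbV w.2 (congrArg Subtype.val hw))
    refine le_trans ?_ (IsCyclic.card_pow_eq_one_le (α := W) (n := 2) two_pos)
    rw [Nat.card_eq_fintype_card, Fintype.card_subtype]
    exact Finset.card_le_card fun w hw => by
      simp only [Finset.mem_filter, Finset.mem_univ, true_and] at hw ⊢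
      exact hsub w hw
  have hker2 : Nat.card f.ker ∣ 2 := by
    have : 0 < Nat.card f.ker := Nat.card_pos
    interval_cases (Nat.card f.ker) <;> norm_num
  have hcard : Nat.card W = Nat.card f.ker * Nat.card f.range := by
    rw [← f.ker.card_mul_index, Subgroup.index_ker]
  -- the subgroup generated by `c` is proper, so its order divides half that of `W`
  have hlt : Nat.card (zpowers c) * 2 ∣ Nat.card W := by
    obtain ⟨n, hn⟩ := IsPGroup.iff_card.mp hWp
    have hd : Nat.card (zpowers c) ∣ Nat.card W := Subgroup.card_dvd_of_le (zpowers_le.mpr hc)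
    rw [hn] at hd ⊢
    obtain ⟨m, hm, hm'⟩ := (Nat.dvd_prime_pow Nat.prime_two).mp hd
    have hne : Nat.card (zpowers c) ≠ Nat.card W := fun h =>
      hgen (Subgroup.eq_of_le_of_card_ge (zpowers_le.mpr hc) h.ge)
    rw [hm', hn] at hne
    rw [hm', ← pow_succ]
    exact pow_dvd_pow 2 (by
      rcases lt_or_eq_of_le hm with h | h
      · exact h
      · exact absurd (by rw [h]) hne)
  have hdvd : Nat.card (zpowers c) ∣ Nat.card (f.range.map W.subtype) := by
    rw [Subgroup.card_subtype]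
    obtain ⟨d, hd⟩ := hker2
    have h1 : Nat.card (zpowers c) * 2 ∣ 2 * Nat.card f.range := by
      refine hlt.trans ?_
      rw [hcard]
      exact Nat.mul_dvd_mul_right ⟨d, hd⟩ _
    rw [mul_comm] at h1
    exact Nat.dvd_of_mul_dvd_mul_left two_pos h1
  obtain ⟨_, ⟨w, rfl⟩, hw⟩ := le_of_card_dvd (W := W) (zpowers_le.mpr hc)
    (Subgroup.map_subtype_le _) hdvd (mem_zpowers c)
  exact ⟨w, w.2, hw⟩

/-- A 2-group with a central cyclic subgroup of order at least four is cyclic or has a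
noncentral-in-`V` involution with at most two conjugates, differing by the involution of `V`. -/
theorem cyclic_or_exists_involution {P V : Subgroup G} (hP : IsPGroup 2 P) (hVP : V ≤ P)
    [hVcyc : IsCyclic V] (hV4 : 4 ∣ Nat.card V) (hVc : ∀ v ∈ V, ∀ g ∈ P, g * v = v * g) {z : G}
    (hz : orderOf z = 2) (hzV : z ∈ V) :
    IsCyclic P ∨ ∃ e ∈ P, e * e = 1 ∧ e ∉ V ∧
      ∀ g ∈ P, g * e * g⁻¹ = e ∨ g * e * g⁻¹ = e * z := by
  classical
  haveI : Fact (Nat.Prime 2) := ⟨Nat.prime_two⟩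
  obtain ⟨A, ⟨hVA, hAP, hAc, hAn⟩, hmax⟩ := Set.exists_max_image
    {A : Subgroup G | V ≤ A ∧ A ≤ P ∧ IsCyclic A ∧ ∀ g ∈ P, ∀ a ∈ A, g * a * g⁻¹ ∈ A}
    (fun A : Subgroup G => Nat.card A) (Set.toFinite _)
    ⟨V, le_rfl, hVP, hVcyc, fun g hg v hv => by
      rw [hVc v hv g hg, mul_inv_cancel_right]; exact hv⟩
  by_cases hAeq : A = P
  · subst hAeq; exact Or.inl hAc
  right
  haveI := hAc
  haveI hn : (A.subgroupOf P).Normal := ⟨fun a ha g => hAn g g.2 a ha⟩
  have htop : (⊤ : Subgroup (↥P ⧸ A.subgroupOf P)) ≠ ⊥ := by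
    intro h
    apply hAeq
    refine le_antisymm hAP fun x hx => ?_
    have h1 : ((⟨x, hx⟩ : P) : ↥P ⧸ A.subgroupOf P) ∈ (⊥ : Subgroup (↥P ⧸ A.subgroupOf P)) := by
      rw [← h]; exact mem_top _
    rw [mem_bot, QuotientGroup.eq_one_iff] at h1
    exact h1
  obtain ⟨q, -, hqc, hqo⟩ :=
    Involution.exists_central_mem_normal (hP.to_quotient (A.subgroupOf P)) ⊤ htop
  obtain ⟨b, rfl⟩ := QuotientGroup.mk_surjective q
  have hbA : (b : G) ∉ A := fun h => by
    have : (b : ↥P ⧸ A.subgroupOf P) = 1 := (QuotientGroup.eq_one_iff b).mpr h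
    rw [this] at hqo; simp at hqo
  have hb2 : (b : G) * b ∈ A := by
    have h1 : ((b * b : P) : ↥P ⧸ A.subgroupOf P) = 1 := by
      rw [QuotientGroup.mk_mul, Involution.mul_self_of_orderOf hqo]
    rw [QuotientGroup.eq_one_iff] at h1
    exact h1
  have hbconj : ∀ g ∈ P, ∃ a ∈ A, g * (b : G) * g⁻¹ = a * b := by
    intro g hg
    refine ⟨g * b * g⁻¹ * (b : G)⁻¹, ?_, by group⟩
    have h1 : ((⟨g, hg⟩ * b * ⟨g, hg⟩⁻¹ * b⁻¹ : P) : ↥P ⧸ A.subgroupOf P) = 1 := by
      simp only [QuotientGroup.mk_mul, QuotientGroup.mk_inv]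
      rw [Subgroup.mem_center_iff.mp hqc, mul_inv_cancel_right, mul_inv_cancel]
    rw [QuotientGroup.eq_one_iff] at h1
    exact h1
  have hbW : ∀ w ∈ A, (b : G)⁻¹ * w * b ∈ A := fun w hw => by
    simpa using hAn ((b : G)⁻¹) (inv_mem b.2) w hw
  have hbV : ∀ v ∈ V, (b : G) * v = v * b := fun v hv => hVc v hv b b.2
  rcases exists_inv_mul (hP.to_le hAP) hVA hV4 hbW hbV hb2 with hgen | ⟨w, hw, hwf⟩
  · exfalso
    have hAle : A ≤ zpowers (b : G) := by
      rw [← hgen, zpowers_le]; exact mul_mem (mem_zpowers _) (mem_zpowers _)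
    have hBmem : zpowers (b : G) ∈ {A : Subgroup G | V ≤ A ∧ A ≤ P ∧ IsCyclic A ∧
        ∀ g ∈ P, ∀ a ∈ A, g * a * g⁻¹ ∈ A} := by
      refine ⟨hVA.trans hAle, zpowers_le.mpr b.2, inferInstance, fun g hg x hx => ?_⟩
      obtain ⟨i, rfl⟩ := hx
      obtain ⟨a, ha, hab⟩ := hbconj g hg
      simp only
      rw [← conj_zpow, hab]
      exact zpow_mem (mul_mem (hAle ha) (mem_zpowers _)) i
    exact hbA ((Subgroup.eq_of_le_of_card_ge hAle (hmax _ hBmem)).symm ▸ mem_zpowers _)
  · set e := (b : G) * w⁻¹ with he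
    have hcomm : ∀ x ∈ A, ∀ y ∈ A, x * y = y * x := fun x hx y hy =>
      congrArg Subtype.val ((IsCyclic.commGroup (α := A)).mul_comm ⟨x, hx⟩ ⟨y, hy⟩)
    have hee : e * e = 1 := by
      have h1 : w⁻¹ * (b : G) = b * w * ((b : G) * b)⁻¹ := by
        rw [← hwf]; group
      calc e * e = (b : G) * (w⁻¹ * b) * w⁻¹ := by rw [he]; group
        _ = ((b : G) * b * w) * ((b : G) * b)⁻¹ * w⁻¹ := by rw [h1]; group
        _ = (w * ((b : G) * b)) * ((b : G) * b)⁻¹ * w⁻¹ := by rw [hcomm _ hb2 _ hw]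
        _ = 1 := by group
    have heP : e ∈ P := mul_mem b.2 (inv_mem (hAP hw))
    have heA : e ∉ A := fun h => hbA (by simpa [he] using mul_mem h hw)
    refine ⟨e, heP, hee, fun h => heA (hVA h), fun g hg => ?_⟩
    obtain ⟨a, ha, hab⟩ := hbconj g hg
    have hgw : g * w⁻¹ * g⁻¹ ∈ A := hAn g hg _ (inv_mem hw)
    set a' := g * e * g⁻¹ * e⁻¹ with ha'
    have ha'A : a' ∈ A := by
      have : a' = a * ((b : G) * (g * w⁻¹ * g⁻¹ * w) * (b : G)⁻¹) := by
        have h2 : g * e * g⁻¹ = (g * (b : G) * g⁻¹) * (g * w⁻¹ * g⁻¹) := by rw [he]; group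
        rw [ha', h2, hab, he]; group
      rw [this]
      exact mul_mem ha (hAn _ b.2 _ (mul_mem hgw hw))
    have hinv : e⁻¹ * a' * e * a' = 1 := by
      have hei : e⁻¹ = e := inv_eq_of_mul_eq_one_right hee
      have h3 : (a' * e) * (a' * e) = 1 := by
        rw [ha', inv_mul_cancel_right]
        calc g * e * g⁻¹ * (g * e * g⁻¹) = g * (e * e) * g⁻¹ := by group
          _ = 1 := by rw [hee]; group
      have h4 : e * a' * e * a' = a'⁻¹ * (a' * e * (a' * e)) * a' := by group
      rw [hei, h4, h3, mul_one, inv_mul_cancel]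
    have heV : ∀ v ∈ V, e * v = v * e := fun v hv => hVc v hv e heP
    have hsq := mul_self_of_inverted (hP.to_le hAP) hVA hV4 heV ha'A hinv
    have hge : g * e * g⁻¹ = a' * e := by rw [ha']; group
    rcases eq_one_or_eq hz (hVA hzV) ha'A hsq with h | h
    · left; rw [hge, h, one_mul]
    · right; rw [hge, h, heV z hzV]

end Cfsg.Agent.CyclicInter17
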