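import Cfsg.Agent.CyclicInter17.Main
import Cfsg.Agent.S3305

/-!
# S3306 from the solvability of groups of odd order
-/

set_option autoImplicit false
set_option linter.style.haveILetI false

namespace Cfsg.Agent.CyclicInter17

open Subgroup

universe u

theorem of_feitThompson (hFT : OddOrderGlue.FeitThompson.{u}) {G : Type u} [Group G] [Finite G]
    (hns : ¬ Group.IsSolvable G)
    (hC : ∀ S T : Sylow 2 G, S ≠ T → IsCyclic ↥((S : Subgroup G) ⊓ (T : Subgroup G)))
    (N : Subgroup G) [N.Normal] (hN : Group.IsSolvable ↥N) :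
    IsCyclic ↥(N.map (QuotientGroup.mk' (Cfsg.oddCore G))) ∧
      IsPGroup 2 ↥(N.map (QuotientGroup.mk' (Cfsg.oddCore G))) ∧
      N.map (QuotientGroup.mk' (Cfsg.oddCore G)) ≤ center (G ⧸ Cfsg.oddCore G) := by
  haveI : Fact (Nat.Prime 2) := ⟨Nat.prime_two⟩
  set f := QuotientGroup.mk' (Cfsg.oddCore G) with hf
  haveI hOs : Group.IsSolvable ↥(Cfsg.oddCore G) :=
    hFT _ (Nat.coprime_two_right.mp Thompson.card_pPrimeCore_coprime)
  have hns' : ¬ Group.IsSolvable (G ⧸ Cfsg.oddCore G) := fun h => by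
    haveI := h
    exact hns (Group.isSolvable_of_ker_le_range (Cfsg.oddCore G).subtype f (by simp [hf]))
  have hC' : CycInter (G ⧸ Cfsg.oddCore G) := Cfsg.Agent.S3305.result hC (Cfsg.oddCore G)
  have hO : Cfsg.oddCore (G ⧸ Cfsg.oddCore G) = ⊥ := Thompson.pPrimeCore_quotient_pPrimeCore
  haveI : (N.map f).Normal := Subgroup.Normal.map inferInstance f (QuotientGroup.mk'_surjective _)
  have hNs : Group.IsSolvable ↥(N.map f) := by
    haveI := hN
    exact Group.isSolvable_of_surjective (f := f.subgroupMap N) (f.subgroupMap_surjective N)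
  have hle := le_pCore_of_isSolvable hC' hFT hns' hO (N.map f) hNs
  haveI := isCyclic_pCore hC' hFT hns'
  exact ⟨Subgroup.isCyclic_of_le hle, Thompson.isPGroup_pCore.to_le hle,
    hle.trans (pCore_le_center hC' hFT hns' hO)⟩

end Cfsg.Agent.CyclicInter17
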