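import Cfsg.Agent.CyclicInter17.Basic
import Cfsg.Agent.S0215
import Cfsg.Agent.LAE65.Subnormal
import Cfsg.Agent.Lib.Coprime.Action
import Cfsg.Agent.Lib.Thompson.Cores
import Cfsg.Agent.Lib.OddOrderGlue.Basic
import Cfsg.Agent.Lib.Involution.Isolated
import Cfsg.Agent.Lib.Fitting
import Cfsg.Agent.Lib.Fitting.AbelianNilpotentProduct

/-!
# Solvable normal subgroups when Sylow 2-intersections are cyclic
-/

set_option autoImplicit false
set_option linter.style.haveILetI false

namespace Cfsg.Agent.CyclicInter17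

open Subgroup
open scoped Pointwise

universe u

variable {G : Type u} [Group G] [Finite G]

/-- The hypothesis: distinct Sylow 2-subgroups intersect in cyclic groups. -/
def CycInter (G : Type u) [Group G] : Prop :=
  ∀ S T : Sylow 2 G, S ≠ T → IsCyclic ↥((S : Subgroup G) ⊓ (T : Subgroup G))

theorem uniq (hC : CycInter G) {R : Subgroup G} (hR : ¬ IsCyclic R) {S T : Sylow 2 G}
    (hS : R ≤ S) (hT : R ≤ T) : S = T := by
  by_contra h
  haveI := hC S T h
  exact hR (Subgroup.isCyclic_of_le (le_inf hS hT))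

/-- The dihedral argument. -/
theorem pair (hC : CycInter G) {V : Subgroup G} [hVn : V.Normal] [hVc : IsCyclic V]
    (hVp : IsPGroup 2 V) {a b : G} {S T : Sylow 2 G} (hST : S ≠ T) (haS : a ∈ S) (hbT : b ∈ T)
    (hVS : V ≤ S) (hVT : V ≤ T) (ha2 : a * a ∈ V) (hb2 : b * b ∈ V)
    (hna : ¬ IsCyclic ↥(V ⊔ zpowers a)) (hnb : ¬ IsCyclic ↥(V ⊔ zpowers b)) :
    ∃ W : Subgroup G, IsCyclic W ∧ V ≤ W ∧ IsPGroup 2 W ∧
      ∃ d ∈ closure ({a, b} : Set G), d * a * d⁻¹ * b⁻¹ ∈ W := by
  classical
  haveI : Fact (Nat.Prime 2) := ⟨Nat.prime_two⟩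
  obtain ⟨W, ⟨hVW, hWc, hWp, haW, hbW⟩, hmax⟩ := Set.exists_max_image
    {W : Subgroup G | V ≤ W ∧ IsCyclic W ∧ IsPGroup 2 W ∧ a ∈ normalizer (W : Set G) ∧
      b ∈ normalizer (W : Set G)}
    (fun W : Subgroup G => Nat.card W) (Set.toFinite _)
    ⟨V, le_rfl, hVc, hVp, by simp [normalizer_eq_top_iff.mpr hVn],
      by simp [normalizer_eq_top_iff.mpr hVn]⟩
  refine ⟨W, hWc, hVW, hWp, ?_⟩
  haveI := hWc
  set M : Subgroup G := normalizer (W : Set G) with hM
  have hWM : W ≤ M := le_normalizer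
  haveI hWn : (W.subgroupOf M).Normal := normal_subgroupOf_of_le_normalizer le_rfl
  set π := QuotientGroup.mk' (W.subgroupOf M) with hπ
  set x := π ⟨a, haW⟩ with hx
  set y := π ⟨b, hbW⟩ with hy
  have hπ1 : ∀ m : M, π m = 1 ↔ (m : G) ∈ W := fun m => by
    rw [hπ, QuotientGroup.mk'_apply, QuotientGroup.eq_one_iff]; rfl
  have hxx : x * x = 1 := by
    rw [hx, ← map_mul, hπ1]; exact hVW ha2
  have hyy : y * y = 1 := by
    rw [hy, ← map_mul, hπ1]; exact hVW hb2
  have hanW : ∀ c : G, ¬ IsCyclic ↥(V ⊔ zpowers c) → c ∉ W := fun c hc h =>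
    hc (Subgroup.isCyclic_of_le (sup_le hVW (zpowers_le.mpr h)))
  have hx1 : orderOf x = 2 := Involution.orderOf_eq_two_iff'.mpr
    ⟨hxx, fun h => hanW a hna ((hπ1 _).mp h)⟩
  have hy1 : orderOf y = 2 := Involution.orderOf_eq_two_iff'.mpr
    ⟨hyy, fun h => hanW b hnb ((hπ1 _).mp h)⟩
  rcases Nat.even_or_odd (orderOf (x * y)) with heven | hodd
  · exfalso
    obtain ⟨u, hu1, hxu, hyu⟩ : ∃ u, orderOf u = 2 ∧ Commute x u ∧ Commute y u :=
      ⟨_, Involution.orderOf_pow_half heven (orderOf_pos _).ne',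
        (Involution.commute_pow_half_left hxx hyy heven).symm,
        (Involution.commute_pow_half_right hxx hyy heven).symm⟩
    have hker : IsPGroup 2 π.ker := by
      rw [hπ, QuotientGroup.ker_mk']
      exact hWp.of_equiv (subgroupOfEquivOfLe hWM).symm
    -- the preimages
    let pre : Subgroup (↥M ⧸ W.subgroupOf M) → Subgroup G := fun K => (K.comap π).map M.subtype
    have hpreW : ∀ K, W ≤ pre K := fun K w hw =>
      ⟨⟨w, hWM hw⟩, by
        show π ⟨w, hWM hw⟩ ∈ K
        rw [(hπ1 _).mpr hw]; exact one_mem K, rfl⟩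
    have hprep : ∀ K : Subgroup (↥M ⧸ W.subgroupOf M), IsPGroup 2 K → IsPGroup 2 (pre K) := fun K hK =>
      (hK.comap_of_ker_isPGroup π hker).map M.subtype
    have hpre_mem : ∀ K (m : M), π m ∈ K → (m : G) ∈ pre K := fun K m hm => ⟨m, hm, rfl⟩
    have hnorm : ∀ (m : M), Commute (π m) u → (m : G) ∈ normalizer (pre (zpowers u) : Set G) := by
      intro m hm
      have h1 : π m ∈ normalizer (zpowers u : Set (↥M ⧸ W.subgroupOf M)) := by
        rw [Subgroup.mem_normalizer_iff]
        intro h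
        constructor
        · rintro ⟨i, rfl⟩
          exact ⟨i, eq_mul_inv_of_mul_eq (hm.zpow_right i).eq.symm⟩
        · rintro ⟨i, hi⟩
          refine ⟨i, ?_⟩
          simp only at hi ⊢
          calc u ^ i = (π m)⁻¹ * (u ^ i) * π m := by
                rw [mul_assoc, ← (hm.zpow_right i).eq, inv_mul_cancel_left]
            _ = h := by rw [hi]; group
      exact le_normalizer_map M.subtype ⟨m, le_normalizer_comap π h1, rfl⟩
    set W' := pre (zpowers u) with hW'
    have hW'p : IsPGroup 2 W' := hprep _ (IsPGroup.of_card (n := 1) (by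
      rw [Nat.card_zpowers, hu1, pow_one]))
    by_cases hcyc : IsCyclic W'
    · have hle := hmax W' ⟨hVW.trans (hpreW _), hcyc, hW'p, hnorm _ hxu, hnorm _ hyu⟩
      obtain ⟨u', hu'⟩ := QuotientGroup.mk'_surjective (W.subgroupOf M) u
      have hu'W : (u' : G) ∈ W := by
        rw [Subgroup.eq_of_le_of_card_ge (hpreW (zpowers u)) hle]
        exact hpre_mem _ u' (by rw [hπ, hu']; exact mem_zpowers u)
      rw [← hπ1, hπ, hu'] at hu'W
      rw [hu'W, orderOf_one] at hu1
      omega
    · have huu : u * u = 1 := Involution.mul_self_of_orderOf hu1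
      have key : ∀ (c : G) (hc : c ∈ M), Commute (π ⟨c, hc⟩) u → π ⟨c, hc⟩ * π ⟨c, hc⟩ = 1 →
          ∀ P : Sylow 2 G, c ∈ P → V ≤ P → ¬ IsCyclic ↥(V ⊔ zpowers c) → W' ≤ P := by
        intro c hc hcu hcc P hcP hVP hcn
        set K := closure ({π ⟨c, hc⟩, u} : Set (↥M ⧸ W.subgroupOf M))
        obtain ⟨Q, hQ⟩ := (hprep K (Involution.isPGroup_closure_pair_of_commute hcc huu hcu)).exists_le_sylow
        have h1 : W' ≤ Q := le_trans (map_mono (comap_mono (zpowers_le.mpr
          (subset_closure (by simp))))) hQ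
        have h2 : c ∈ Q := hQ (hpre_mem K ⟨c, hc⟩ (subset_closure (by simp)))
        have h3 : P = Q := uniq hC hcn (sup_le hVP (zpowers_le.mpr hcP))
          (sup_le ((hVW.trans (hpreW _)).trans hQ) (zpowers_le.mpr h2))
        rw [h3]; exact h1
      exact hST (uniq hC hcyc (key a haW hxu hxx S haS hVS hna) (key b hbW hyu hyy T hbT hVT hnb))
  · obtain ⟨k, hk⟩ := Involution.exists_conj_of_odd hxx hyy hodd
    refine ⟨(a * b) ^ k, zpow_mem (mul_mem (subset_closure (by simp)) (subset_closure (by simp))) k, ?_⟩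
    set d : M := (⟨a, haW⟩ * ⟨b, hbW⟩) ^ k with hd
    have h1 : π (d * ⟨a, haW⟩ * d⁻¹ * ⟨b, hbW⟩⁻¹) = 1 := by
      simp only [hd, map_mul, map_inv, map_zpow]
      rw [← hx, ← hy, hk, mul_inv_cancel]
    exact (hπ1 _).mp h1

/-- Sylow intersections with a normal subgroup have odd relative index. -/
theorem odd_relIndex (S : Sylow 2 G) (N : Subgroup G) [hN : N.Normal] :
    Odd (((S : Subgroup G) ⊓ N).relIndex N) := by
  haveI : Fact (Nat.Prime 2) := ⟨Nat.prime_two⟩
  have := LAE65.not_dvd_relIndex_inf_of_normal S hN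
  exact Nat.not_even_iff_odd.mp fun h => this h.two_dvd

/-- If the solvable group `S ⊓ C` is normal of odd index in `C`, then `C` is solvable. -/
theorem isSolvable_of_le_normalizer (hFT : OddOrderGlue.FeitThompson.{u}) (S : Sylow 2 G)
    (C : Subgroup G) [C.Normal] (hle : C ≤ normalizer ((S : Subgroup G) : Set G)) :
    Group.IsSolvable C := by
  haveI : Fact (Nat.Prime 2) := ⟨Nat.prime_two⟩
  have hn : C ≤ normalizer (((S : Subgroup G) ⊓ C : Subgroup G) : Set G) :=
    Coprime.le_normalizer_inf hle le_normalizer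
  haveI : (((S : Subgroup G) ⊓ C).subgroupOf C).Normal := normal_subgroupOf_of_le_normalizer hn
  set N := ((S : Subgroup G) ⊓ C).subgroupOf C
  haveI : Group.IsSolvable N := by
    have hp : IsPGroup 2 N :=
      (S.2.to_le inf_le_left).of_equiv (subgroupOfEquivOfLe inf_le_right).symm
    haveI := hp.isNilpotent
    infer_instance
  haveI : Group.IsSolvable (C ⧸ N) := hFT (C ⧸ N) (by
    rw [← Subgroup.index_eq_card]; exact odd_relIndex S C)
  exact Group.isSolvable_of_ker_le_range N.subtype (QuotientGroup.mk' N) (by simp)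

variable (hC : CycInter G) (hFT : OddOrderGlue.FeitThompson.{u})
  (hns : ¬ Group.IsSolvable G) (hO : Cfsg.oddCore G = ⊥)

include hFT hns in
theorem exists_two_sylow : ∃ S T : Sylow 2 G, S ≠ T := by
  by_contra h
  push Not at h
  obtain ⟨S⟩ := (inferInstance : Nonempty (Sylow 2 G))
  have hle : (⊤ : Subgroup G) ≤ normalizer ((S : Subgroup G) : Set G) := fun g _ =>
    (Sylow.smul_eq_iff_mem_normalizer).mp (h (g • S) S)
  have := isSolvable_of_le_normalizer hFT S ⊤ hle
  exact hns (Group.isSolvable_of_surjective (f := (topEquiv (G := G)).toMonoidHom) topEquiv.surjective)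

include hC hFT hns in
theorem isCyclic_pCore : IsCyclic ↥(Cfsg.pCore 2 G) := by
  haveI : Fact (Nat.Prime 2) := ⟨Nat.prime_two⟩
  obtain ⟨S, T, hST⟩ := exists_two_sylow hFT hns
  haveI := hC S T hST
  exact Subgroup.isCyclic_of_le
    (le_inf (Thompson.pCore_le_sylow S) (Thompson.pCore_le_sylow T))

include hC hFT hns in
theorem isPGroup_quotient : IsPGroup 2 (G ⧸ centralizer (Cfsg.pCore 2 G : Set G)) := by
  haveI : Fact (Nat.Prime 2) := ⟨Nat.prime_two⟩
  haveI := isCyclic_pCore hC hFT hns
  set V := Cfsg.pCore 2 G with hV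
  have hker : (MulAut.conjNormal (H := V)).ker = centralizer (V : Set G) := by
    ext g
    rw [MonoidHom.mem_ker, mem_centralizer_iff, MulEquiv.ext_iff]
    constructor
    · intro h v hv
      have := congrArg Subtype.val (h ⟨v, hv⟩)
      simp only [MulAut.conjNormal_apply, MulAut.one_apply] at this
      exact (mul_inv_eq_iff_eq_mul.mp this).symm
    · intro h v
      apply Subtype.ext
      simp only [MulAut.conjNormal_apply, MulAut.one_apply]
      rw [← h v v.2, mul_inv_cancel_right]
  have hp : IsPGroup 2 (MulAut V) := by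
    obtain ⟨n, hn⟩ := IsPGroup.iff_card.mp (Thompson.isPGroup_pCore (p := 2) (G := G))
    rw [IsPGroup.iff_card, IsCyclic.card_mulAut, ← hV] at *
    rw [hn]
    cases n with
    | zero => exact ⟨0, by simp⟩
    | succ k => exact ⟨k, by rw [Nat.totient_prime_pow_succ Nat.prime_two]; simp⟩
  refine (hp.to_subgroup (MulAut.conjNormal (H := V)).range).of_equiv ?_
  exact ((QuotientGroup.quotientMulEquivOfEq hker.symm).trans
    (QuotientGroup.quotientKerEquivRange _)).symm

include hC hFT hns in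
theorem not_isSolvable_centralizer :
    ¬ Group.IsSolvable ↥(centralizer (Cfsg.pCore 2 G : Set G)) := by
  intro h
  haveI : Fact (Nat.Prime 2) := ⟨Nat.prime_two⟩
  haveI := h
  haveI := (isPGroup_quotient hC hFT hns).isNilpotent
  exact hns (Group.isSolvable_of_ker_le_range (centralizer (Cfsg.pCore 2 G : Set G)).subtype
    (QuotientGroup.mk' (centralizer (Cfsg.pCore 2 G : Set G))) (by simp))

include hC hFT hns hO in
/-- The cyclic group `O₂(G)` is central. -/
theorem pCore_le_center : Cfsg.pCore 2 G ≤ center G := by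
  classical
  haveI : Fact (Nat.Prime 2) := ⟨Nat.prime_two⟩
  haveI hVcyc := isCyclic_pCore hC hFT hns
  have hCns := not_isSolvable_centralizer hC hFT hns
  have hquot := isPGroup_quotient hC hFT hns
  set V := Cfsg.pCore 2 G with hV
  haveI hVn : V.Normal := Thompson.instPCoreNormal
  set C := centralizer (V : Set G) with hCdef
  haveI hCn : C.Normal := normal_centralizer
  have hVp : IsPGroup 2 V := Thompson.isPGroup_pCore
  have hVS : ∀ S : Sylow 2 G, V ≤ S := fun S => Thompson.pCore_le_sylow S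
  by_contra hnc
  have hmemC : ∀ g : G, g ∈ C ↔ ∀ v ∈ V, g * v = v * g := fun g => by
    rw [hCdef, mem_centralizer_iff]
    exact ⟨fun h v hv => (h v hv).symm, fun h v hv => (h v hv).symm⟩
  obtain ⟨g₀, hg₀⟩ : ∃ g : G, g ∉ C := by
    by_contra h
    push Not at h
    exact hnc fun v hv => mem_center_iff.mpr fun g => (hmemC g).mp (h g) v hv
  have hV4 : 4 ∣ Nat.card V := by
    obtain ⟨n, hn⟩ := IsPGroup.iff_card.mp hVp
    rw [hn]
    by_contra h
    apply hg₀
    rw [hmemC]
    have hn2 : n ≤ 1 := by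
      by_contra h2
      exact h (by
        have := pow_dvd_pow 2 (show 2 ≤ n by omega)
        simpa using this)
    intro v hv
    have h1 : Nat.card V ≤ 2 := by rw [hn]; exact (Nat.pow_le_pow_right two_pos hn2).trans (by norm_num)
    by_cases hv1 : v = 1
    · simp [hv1]
    have hw : g₀ * v * g₀⁻¹ ∈ V := hVn.conj_mem v hv g₀
    have hw1 : g₀ * v * g₀⁻¹ ≠ 1 := fun h' => hv1 (by simpa using h')
    by_contra hne
    have hne' : g₀ * v * g₀⁻¹ ≠ v := fun h' => hne (mul_inv_eq_iff_eq_mul.mp h')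
    haveI : Fintype V := Fintype.ofFinite _
    have h3 : ({1, ⟨v, hv⟩, ⟨_, hw⟩} : Finset V).card = 3 := by
      rw [Finset.card_insert_of_notMem, Finset.card_insert_of_notMem, Finset.card_singleton]
      · rw [Finset.mem_singleton]; exact fun h' => hne' (congrArg Subtype.val h').symm
      · simp only [Finset.mem_insert, Finset.mem_singleton, not_or]
        exact ⟨fun h' => hv1 (congrArg Subtype.val h').symm, fun h' => hw1 (congrArg Subtype.val h').symm⟩
    have h4 := Finset.card_le_univ ({1, ⟨v, hv⟩, ⟨_, hw⟩} : Finset V)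
    rw [h3, ← Nat.card_eq_fintype_card] at h4
    omega
  obtain ⟨z₀, hz₀⟩ := exists_prime_orderOf_dvd_card' (G := V) 2 ((show 2 ∣ 4 by norm_num).trans hV4)
  set z : G := (z₀ : G) with hzdef
  have hz : orderOf z = 2 := by rw [hzdef, Subgroup.orderOf_coe, hz₀]
  have hzV : z ∈ V := z₀.2
  have hVC : V ≤ C := fun v hv => (hmemC v).mpr fun w hw =>
    congrArg Subtype.val ((IsCyclic.commGroup (α := V)).mul_comm ⟨v, hv⟩ ⟨w, hw⟩)
  have hWC : ∀ W : Subgroup G, IsCyclic W → V ≤ W → W ≤ C := fun W hWc hVW w hw =>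
    (hmemC w).mpr fun v hv => congrArg Subtype.val
      ((IsCyclic.commGroup (α := W)).mul_comm ⟨w, hw⟩ ⟨v, hVW hv⟩)
  have hnA : ∀ t : G, t * t = 1 → t ∉ V → ¬ IsCyclic ↥(V ⊔ zpowers t) := by
    intro t ht htV hcyc
    rcases eq_one_or_eq (W := V ⊔ zpowers t) hz (mem_sup_left hzV)
      (mem_sup_right (mem_zpowers t)) ht with h | h
    · exact htV (h ▸ one_mem V)
    · exact htV (h ▸ hzV)
  have hnB : ∀ y : G, y ∉ C → ¬ IsCyclic ↥(V ⊔ zpowers y) := fun y hy hcyc =>
    hy (hWC _ hcyc le_sup_left (mem_sup_right (mem_zpowers y)))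
  -- two inner involutions in different Sylow subgroups
  have hinner : ∀ (t s : G) (S T : Sylow 2 G), S ≠ T → t ∈ S → s ∈ T → t ∈ C → s ∈ C → t * t = 1 →
      s * s = 1 → t ∉ V → s ∉ V → ∃ d ∈ C, d * t * d⁻¹ = s ∨ d * t * d⁻¹ = s * z := by
    intro t s S T hST htS hsT htC hsC ht hs htV hsV
    obtain ⟨W, hWc, hVW, hWp, d, hd, hdW⟩ := pair hC hVp hST htS hsT (hVS S) (hVS T)
      (ht ▸ one_mem V) (hs ▸ one_mem V) (hnA t ht htV) (hnA s hs hsV)
    haveI := hWc
    have hdC : d ∈ C := by
      refine (closure_le (K := C)).mpr ?_ hd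
      rintro _ (rfl | rfl) <;> assumption
    refine ⟨d, hdC, ?_⟩
    set w := d * t * d⁻¹ * s⁻¹ with hw
    have hsinv : s⁻¹ = s := inv_eq_of_mul_eq_one_right hs
    have hts : d * t * d⁻¹ = w * s := by rw [hw]; group
    have h1 : s⁻¹ * w * s * w = 1 := by
      have h2 : (w * s) * (w * s) = 1 := by
        rw [← hts]
        calc d * t * d⁻¹ * (d * t * d⁻¹) = d * (t * t) * d⁻¹ := by group
          _ = 1 := by rw [ht]; group
      have h4 : s * w * s * w = w⁻¹ * (w * s * (w * s)) * w := by group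
      rw [hsinv, h4, h2, mul_one, inv_mul_cancel]
    rcases eq_one_or_eq hz (hVW hzV) hdW
      (mul_self_of_inverted hWp hVW hV4 ((hmemC s).mp hsC) hdW h1) with h | h
    · left; rw [hts, h, one_mul]
    · right; rw [hts, h, (hmemC s).mp hsC z hzV]
  obtain ⟨S⟩ := (inferInstance : Nonempty (Sylow 2 G))
  set SC := (S : Subgroup G) ⊓ C with hSC
  have hSCp : IsPGroup 2 SC := S.2.to_le inf_le_left
  obtain ⟨g₁, hg₁C, hg₁⟩ : ∃ g ∈ C, g ∉ normalizer ((S : Subgroup G) : Set G) := by
    by_contra h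
    push Not at h
    exact hCns (isSolvable_of_le_normalizer hFT S C h)
  have hg₁S : g₁ • S ≠ S := fun h => hg₁ (Sylow.smul_eq_iff_mem_normalizer.mp h)
  -- the odd complement `R` in the normaliser of `S` inside `C`
  set M := C ⊓ normalizer ((S : Subgroup G) : Set G) with hM
  have hSCM : SC ≤ M := le_inf inf_le_right (inf_le_left.trans le_normalizer)
  haveI hSCn : (SC.subgroupOf M).Normal := normal_subgroupOf_of_le_normalizer
    (Coprime.le_normalizer_inf inf_le_right (inf_le_left.trans le_normalizer))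
  have hoddi : Odd (SC.subgroupOf M).index := by
    refine (odd_relIndex S C).of_dvd_nat ?_
    show SC.relIndex M ∣ SC.relIndex C
    exact Dvd.intro _ (relIndex_mul_relIndex _ _ _ hSCM inf_le_left)
  have hcop : Nat.Coprime (Nat.card (SC.subgroupOf M)) (SC.subgroupOf M).index := by
    rw [Nat.card_congr (subgroupOfEquivOfLe hSCM).toEquiv]
    obtain ⟨n, hn⟩ := IsPGroup.iff_card.mp hSCp
    rw [hn]
    exact Nat.Coprime.pow_left n ((Nat.prime_two.coprime_iff_not_dvd).mpr
      (fun h => (Nat.not_even_iff_odd.mpr hoddi) (even_iff_two_dvd.mpr h)))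
  obtain ⟨R₀, hR₀⟩ := Subgroup.exists_right_complement'_of_coprime hcop
  set R := R₀.map M.subtype with hR
  have hRM : R ≤ M := map_subtype_le R₀
  have hRodd : Odd (Nat.card R) := by
    rw [hR, Subgroup.card_subtype, ← hR₀.symm.index_eq_card]
    exact hoddi
  have hdecomp : ∀ m ∈ M, ∃ s ∈ SC, ∃ r ∈ R, m = s * r := by
    intro m hm
    obtain ⟨⟨s, r⟩, hsr⟩ := hR₀.2 ⟨m, hm⟩
    exact ⟨(s.1 : G), s.2, (r.1 : G), ⟨r.1, r.2, rfl⟩, congrArg Subtype.val hsr.symm⟩
  -- no involution outside `V` of `SC` is centralised by `R`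
  have hnoinv : ∀ e ∈ SC ⊓ centralizer (R : Set G), e * e = 1 → e ∈ V := by
    intro e he hee
    by_contra heV
    obtain ⟨heSC, heR⟩ := he
    have hfus : ∀ g ∈ C, g * e * g⁻¹ ∈ S → ∃ s ∈ SC, g * e * g⁻¹ = s * e * s⁻¹ := by
      intro g hg hgS
      have hmem : g * e * g⁻¹ ∈ (g • S : Sylow 2 G) := by
        rw [Sylow.smul_def]
        exact ⟨e, heSC.1, rfl⟩
      have hnV : g * e * g⁻¹ ∉ V := fun h => heV (by
        simpa [mul_assoc] using hVn.conj_mem _ h g⁻¹)
      have hsq : g * e * g⁻¹ * (g * e * g⁻¹) = 1 := by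
        calc g * e * g⁻¹ * (g * e * g⁻¹) = g * (e * e) * g⁻¹ := by group
          _ = 1 := by rw [hee]; group
      have hgn : g ∈ normalizer ((S : Subgroup G) : Set G) :=
        Sylow.smul_eq_iff_mem_normalizer.mp (uniq hC (hnA _ hsq hnV)
          (sup_le (hVS _) (zpowers_le.mpr hmem)) (sup_le (hVS _) (zpowers_le.mpr hgS)))
      obtain ⟨s, hs, r, hr, rfl⟩ := hdecomp g ⟨hg, hgn⟩
      refine ⟨s, hs, ?_⟩
      have : r * e = e * r := (mem_centralizer_iff.mp heR r hr)
      calc s * r * e * (s * r)⁻¹ = s * (r * e) * r⁻¹ * s⁻¹ := by group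
        _ = s * e * s⁻¹ := by rw [this]; group
    have hzc : ∀ g ∈ C, g * z = z * g := fun g hg => (hmemC g).mp hg z hzV
    have hcyc : ¬ IsCyclic SC := fun h => by
      haveI := h
      rcases eq_one_or_eq (W := SC) hz ⟨hVS S hzV, hVC hzV⟩ heSC hee with h' | h'
      · exact heV (h' ▸ one_mem V)
      · exact heV (h' ▸ hzV)
    obtain ⟨f, hfSC, hff, hfV, hfconj⟩ := (cyclic_or_exists_involution hSCp
      (le_inf (hVS S) hVC) hV4 (fun v hv g hg => (hmemC g).mp hg.2 v hv) hz hzV).resolve_left hcyc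
    -- every such involution is a conjugate of `e` up to `z`
    have hcase : ∃ s ∈ SC, f = s * e * s⁻¹ ∨ f * z = s * e * s⁻¹ := by
      set e₁ := g₁ * e * g₁⁻¹ with he₁
      have he₁S : e₁ ∈ (g₁ • S : Sylow 2 G) := by
        rw [Sylow.smul_def]; exact ⟨e, heSC.1, rfl⟩
      have he₁C : e₁ ∈ C := hCn.conj_mem e heSC.2 g₁
      have he₁V : e₁ ∉ V := fun h => heV (by simpa [he₁, mul_assoc] using hVn.conj_mem _ h g₁⁻¹)
      have he₁2 : e₁ * e₁ = 1 := by
        rw [he₁]
        calc g₁ * e * g₁⁻¹ * (g₁ * e * g₁⁻¹) = g₁ * (e * e) * g₁⁻¹ := by group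
          _ = 1 := by rw [hee]; group
      obtain ⟨d, hd, hde⟩ :=
        hinner e₁ f _ S hg₁S he₁S hfSC.1 he₁C hfSC.2 he₁2 hff he₁V hfV
      have hconj : d * g₁ * e * (d * g₁)⁻¹ = d * e₁ * d⁻¹ := by rw [he₁]; group
      rcases hde with h | h
      · obtain ⟨s, hs, hs'⟩ := hfus (d * g₁) (mul_mem hd hg₁C) (by rw [hconj, h]; exact hfSC.1)
        exact ⟨s, hs, Or.inl (by rw [← hs', hconj, h])⟩
      · obtain ⟨s, hs, hs'⟩ := hfus (d * g₁) (mul_mem hd hg₁C)
          (by rw [hconj, h]; exact mul_mem hfSC.1 (hVS S hzV))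
        exact ⟨s, hs, Or.inr (by rw [← hs', hconj, h])⟩
    have horb : ∀ g ∈ SC, g * e * g⁻¹ = e ∨ g * e * g⁻¹ = e * z := by
      obtain ⟨s, hs, hse⟩ := hcase
      intro g hg
      have hg' : s * g * s⁻¹ ∈ SC := mul_mem (mul_mem hs hg) (inv_mem hs)
      have hsg : s * g * s⁻¹ * (s * e * s⁻¹) * (s * g * s⁻¹)⁻¹ = s * (g * e * g⁻¹) * s⁻¹ := by group
      have hez : s * (e * z) * s⁻¹ = s * e * s⁻¹ * z := by
        rw [show s * (e * z) * s⁻¹ = s * e * (z * s⁻¹) by group, ← hzc _ (inv_mem hs.2)]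
        group
      have hcan : ∀ p, s * (g * e * g⁻¹) * s⁻¹ = s * p * s⁻¹ → g * e * g⁻¹ = p := fun p hp =>
        mul_left_cancel (mul_right_cancel hp)
      rcases hse with h | h
      · rw [← h] at hsg hez
        rcases hfconj _ hg' with h' | h'
        · left; exact hcan e (by rw [← hsg, h', h])
        · right; exact hcan (e * z) (by rw [← hsg, h', hez])
      · have hfz : s * g * s⁻¹ * (f * z) * (s * g * s⁻¹)⁻¹ =
            s * g * s⁻¹ * f * (s * g * s⁻¹)⁻¹ * z := by
          rw [show s * g * s⁻¹ * (f * z) * (s * g * s⁻¹)⁻¹ =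
            s * g * s⁻¹ * f * (z * (s * g * s⁻¹)⁻¹) by group, ← hzc _ (inv_mem hg'.2)]
          group
        rw [← h] at hsg hez
        rw [hfz] at hsg
        rcases hfconj _ hg' with h' | h'
        · left; exact hcan e (by rw [← hsg, h', h])
        · right; exact hcan (e * z) (by rw [← hsg, h', hez])
    -- `Z*` in `C` modulo `z`
    set zC : C := ⟨z, hVC hzV⟩ with hzC
    haveI hZn : (zpowers zC).Normal := ⟨fun x hx g => by
      obtain ⟨i, rfl⟩ := hx
      have : Commute g zC := Subtype.ext (hzc g g.2)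
      rw [(this.zpow_right i).eq, mul_inv_cancel_right]
      exact ⟨i, rfl⟩⟩
    have hmemZ : ∀ x : C, x ∈ zpowers zC → (x : G) = 1 ∨ (x : G) = z := by
      rintro x ⟨i, rfl⟩
      simp only [SubgroupClass.coe_zpow, hzC]
      rcases Int.even_or_odd i with ⟨j, rfl⟩ | ⟨j, rfl⟩
      · left; rw [← two_mul, zpow_mul, zpow_two, Involution.mul_self_of_orderOf hz, one_zpow]
      · right; rw [zpow_add_one, zpow_mul, zpow_two, Involution.mul_self_of_orderOf hz, one_zpow, one_mul]
    set q := QuotientGroup.mk' (zpowers zC) with hq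
    set eC : C := ⟨e, heSC.2⟩ with heC
    have hqe : orderOf (q eC) = 2 := by
      refine Involution.orderOf_eq_two_iff'.mpr ⟨?_, fun h => ?_⟩
      · rw [← map_mul, show eC * eC = 1 from Subtype.ext hee, map_one]
      · rw [hq, QuotientGroup.mk'_apply, QuotientGroup.eq_one_iff] at h
        rcases hmemZ _ h with h' | h'
        · exact heV (show (e : G) ∈ V by rw [show e = 1 from h']; exact one_mem V)
        · exact heV (show (e : G) ∈ V by rw [show e = z from h']; exact hzV)
    let PC : Sylow 2 C := IsPGroup.toSylow (P := ((S : Subgroup G) ⊓ C).subgroupOf C)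
      (hSCp.of_equiv (subgroupOfEquivOfLe inf_le_right).symm)
      (fun h => Nat.not_even_iff_odd.mpr (odd_relIndex S C) (even_iff_two_dvd.mpr h))
    let P := PC.mapSurjective (QuotientGroup.mk'_surjective (zpowers zC))
    obtain ⟨N, hN, hNodd, hNcomm⟩ := Cfsg.Agent.S0215.result P (q eC) hqe
      ⟨eC, heSC, rfl⟩ (fun x hx => by
        obtain ⟨g, rfl⟩ := QuotientGroup.mk'_surjective (zpowers zC) x
        obtain ⟨m, hm, hm'⟩ := hx
        have hmS : (g : G) * e * (g : G)⁻¹ ∈ S := by
          have h1 : q (g * eC * g⁻¹ * m⁻¹) = 1 := by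
            simp only [map_mul, map_inv]
            rw [hm', mul_inv_cancel]
          rw [hq, QuotientGroup.mk'_apply, QuotientGroup.eq_one_iff] at h1
          have h2 : (g : G) * e * (g : G)⁻¹ * (m : G)⁻¹ ∈ (S : Subgroup G) := by
            rcases hmemZ _ h1 with h | h <;> simp only [Subgroup.coe_mul, Subgroup.coe_inv, heC] at h <;>
              rw [h]
            · exact one_mem _
            · exact hVS S hzV
          have h3 := mul_mem h2 (show (m : G) ∈ (S : Subgroup G) from hm.1)
          rwa [inv_mul_cancel_right] at h3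
        obtain ⟨s, hs, hse⟩ := hfus g g.2 hmS
        have h3 : (eC)⁻¹ * (g * eC * g⁻¹) ∈ zpowers zC := by
          rcases horb s hs with h | h
          · rw [show (eC)⁻¹ * (g * eC * g⁻¹) = 1 from Subtype.ext (by
              simp only [Subgroup.coe_mul, Subgroup.coe_inv, heC, OneMemClass.coe_one]
              rw [hse, h, inv_mul_cancel])]
            exact one_mem _
          · rw [show (eC)⁻¹ * (g * eC * g⁻¹) = zC from Subtype.ext (by
              simp only [Subgroup.coe_mul, Subgroup.coe_inv, heC, hzC]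
              rw [hse, h, inv_mul_cancel_left])]
            exact mem_zpowers _
        rw [← QuotientGroup.eq_one_iff, ← QuotientGroup.mk'_apply, ← hq, map_mul, map_inv,
          inv_mul_eq_one] at h3
        simp only [map_mul, map_inv] at h3
        exact h3.symm)
    -- `N` is trivial
    have hN1 : N = ⊥ := by
      set Nc := N.comap q with hNc
      haveI : Nc.Normal := Subgroup.Normal.comap hN q
      have hZle : zpowers zC ≤ Nc := by
        rw [zpowers_le, hNc, mem_comap, hq, QuotientGroup.mk'_apply,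
          (QuotientGroup.eq_one_iff zC).mpr (mem_zpowers zC)]
        exact one_mem N
      have hidx : ((zpowers zC).subgroupOf Nc).index = Nat.card N := by
        show (zpowers zC).relIndex Nc = _
        have : (zpowers zC).relIndex Nc = ((⊥ : Subgroup (↥C ⧸ zpowers zC)).comap q).relIndex Nc := by
          rw [MonoidHom.comap_bot, hq, QuotientGroup.ker_mk']
        rw [this, hNc, relIndex_comap, map_comap_eq_self_of_surjective (QuotientGroup.mk'_surjective _),
          relIndex_bot_left]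
      have hcardZ : Nat.card ((zpowers zC).subgroupOf Nc) = 2 := by
        rw [Nat.card_congr (subgroupOfEquivOfLe hZle).toEquiv, Nat.card_zpowers,
          ← Subgroup.orderOf_coe, hzC, hz]
      obtain ⟨H, hH⟩ := Subgroup.exists_right_complement'_of_coprime
        (N := (zpowers zC).subgroupOf Nc) (by
          rw [hcardZ, hidx]; exact hNodd.coprime_two_left)
      haveI hHn : H.Normal := by
        refine ⟨fun h hh g => ?_⟩
        obtain ⟨⟨a, r⟩, rfl⟩ := hH.2 g
        have hac : ∀ k : Nc, (a : Nc) * k = k * (a : Nc) := by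
          intro k
          obtain ⟨i, hi⟩ := a.2
          simp only at hi
          have h1 : Commute (zC) (k : C) := Subtype.ext (hzc _ k.1.2).symm
          apply Subtype.ext
          show ((a : Nc) : C) * (k : C) = (k : C) * ((a : Nc) : C)
          have hi' : zC ^ i = ((a : Nc) : C) := hi
          rw [← hi']
          exact (h1.zpow_left i).eq
        have : ((a : Nc) * (r : Nc)) * h * ((a : Nc) * (r : Nc))⁻¹ = (r : Nc) * h * (r : Nc)⁻¹ := by
          rw [show ((a : Nc) * (r : Nc)) * h * ((a : Nc) * (r : Nc))⁻¹ =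
            (a : Nc) * ((r : Nc) * h * (r : Nc)⁻¹) * (a : Nc)⁻¹ by group, hac, mul_inv_cancel_right]
        rw [this]
        exact mul_mem (mul_mem r.2 hh) (inv_mem r.2)
      have hHcard : Nat.card H = Nat.card N := by
        rw [← hidx, hH.symm.index_eq_card]
      have hHle : H ≤ Cfsg.pPrimeCore 2 Nc := Thompson.le_pPrimeCore hHn (by
        rw [hHcard]; exact (hNodd.coprime_two_left).symm)
      have hbot : Cfsg.pPrimeCore 2 C = ⊥ := by
        apply Subgroup.map_injective C.subtype_injective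
        rw [Subgroup.map_bot, Thompson.map_pPrimeCore_normal_eq C]
        rw [show Cfsg.pPrimeCore 2 G = ⊥ from hO, inf_bot_eq]
      have hbot2 : Cfsg.pPrimeCore 2 Nc = ⊥ := by
        apply Subgroup.map_injective Nc.subtype_injective
        rw [Subgroup.map_bot, Thompson.map_pPrimeCore_normal_eq Nc, hbot, inf_bot_eq]
      rw [hbot2, le_bot_iff] at hHle
      rw [hHle, Subgroup.card_bot] at hHcard
      exact Subgroup.card_eq_one.mp hHcard.symm
    -- so `⟨z, e⟩` is a normal 2-subgroup of `C`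
    have hcent : ∀ g : C, q (g * eC * g⁻¹) = q eC := fun g => by
      have := hNcomm (q g)
      rw [hN1, mem_bot, mul_inv_eq_one, mul_inv_eq_iff_eq_mul] at this
      simp only [map_mul, map_inv]
      rw [← this, mul_inv_cancel_right]
    set U := (zpowers (q eC)).comap q with hU
    have hUn : U.Normal := ⟨fun x hx g => by
      rw [hU, mem_comap] at hx ⊢
      obtain ⟨i, hi⟩ := hx
      refine ⟨i, ?_⟩
      simp only at hi ⊢
      have := hcent g
      simp only [map_mul, map_inv] at this ⊢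
      rw [← hi, ← conj_zpow, this]⟩
    have hUp : IsPGroup 2 U := by
      refine (IsPGroup.of_card (n := 1) ?_).comap_of_ker_isPGroup q ?_
      · rw [Nat.card_zpowers, hqe, pow_one]
      · rw [hq, QuotientGroup.ker_mk']
        refine IsPGroup.of_card (n := 1) ?_
        rw [Nat.card_zpowers, ← Subgroup.orderOf_coe, hzC, hz, pow_one]
    have : e ∈ C ⊓ V := by
      rw [hV, ← Thompson.map_pCore_normal_eq C]
      exact ⟨eC, Thompson.le_pCore hUn hUp (mem_comap.mpr (mem_zpowers _)), rfl⟩
    exact heV this.2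
  -- an element outside `C` squaring into `V`
  obtain ⟨x, hxS, hxC⟩ : ∃ x ∈ (S : Subgroup G), x ∉ C := by
    by_contra h
    push Not at h
    have hdvd : C.index ∣ (S : Subgroup G).index := Subgroup.index_dvd_of_le (fun s hs => h s hs)
    obtain ⟨n, hn⟩ := IsPGroup.iff_card.mp hquot
    rw [← Subgroup.index_eq_card] at hn
    rcases Nat.eq_zero_or_pos n with rfl | hn0
    · have hCtop : C = ⊤ := Subgroup.index_eq_one.mp (by rw [hn, pow_zero])
      exact hg₀ (by rw [hCtop]; exact mem_top _)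
    · exact S.not_dvd_index ((dvd_pow_self 2 hn0.ne').trans (hn ▸ hdvd))
  obtain ⟨n, hn, hxn⟩ := Coprime.exists_fixed_in_coset R SC
    (hRM.trans (Coprime.le_normalizer_inf inf_le_right (inf_le_left.trans le_normalizer)))
    (by
      obtain ⟨k, hk⟩ := IsPGroup.iff_card.mp hSCp
      rw [hk]; exact (hRodd.coprime_two_left.symm).pow_right k)
    (Or.inr (by haveI := hSCp.isNilpotent; infer_instance)) x (fun a ha => by
      refine Subgroup.mem_inf.mpr ⟨mul_mem (inv_mem hxS) ((mem_normalizer_iff.mp (hRM ha).2 x).mp hxS), ?_⟩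
      have haC : a ∈ C := (hRM ha).1
      rw [show x⁻¹ * (a * x * a⁻¹) = (x⁻¹ * a * x) * a⁻¹ by group]
      exact mul_mem (by simpa using hCn.conj_mem a haC x⁻¹) (inv_mem haC))
  set x₁ := x * n with hx₁
  have hx₁S : x₁ ∈ S := mul_mem hxS hn.1
  have hx₁C : x₁ ∉ C := fun h => hxC (by simpa [hx₁] using mul_mem h (inv_mem hn.2))
  have hex : ∃ j, x₁ ^ 2 ^ j ∈ C := by
    obtain ⟨j, hj⟩ := S.2 ⟨x₁, hx₁S⟩
    exact ⟨j, by rw [show x₁ ^ 2 ^ j = 1 from congrArg Subtype.val hj]; exact one_mem C⟩
  obtain ⟨j, hj⟩ : ∃ j, Nat.find hex = j + 1 := by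
    refine ⟨Nat.find hex - 1, ?_⟩
    have : Nat.find hex ≠ 0 := fun h => hx₁C (by
      have := Nat.find_spec hex
      rwa [h, pow_zero, pow_one] at this)
    omega
  set y := x₁ ^ 2 ^ j with hy
  have hyC : y ∉ C := Nat.find_min hex (by omega)
  have hy2C : y * y ∈ C := by
    have := Nat.find_spec hex
    rwa [hj, pow_succ, pow_mul, ← hy, pow_two] at this
  have hyS : y ∈ S := pow_mem hx₁S _
  set P₀ := SC ⊓ centralizer (R : Set G) with hP₀
  have hVP₀ : V ≤ P₀ := le_inf (le_inf (hVS S) hVC) fun v hv => mem_centralizer_iff.mpr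
    fun r hr => (hmemC r).mp (hRM hr).1 v hv
  have hy2P : y * y ∈ P₀ :=
    ⟨⟨mul_mem hyS hyS, hy2C⟩, mul_mem (pow_mem hxn _) (pow_mem hxn _)⟩
  have hP₀p : IsPGroup 2 P₀ := hSCp.to_le inf_le_left
  rcases cyclic_or_exists_involution hP₀p hVP₀ hV4 (fun v hv g hg => (hmemC g).mp hg.1.2 v hv)
      hz hzV with hcyc | ⟨e, he, hee, heV, -⟩
  · have hy2V : y * y ∈ V := by
      haveI := hcyc
      obtain ⟨a, ha⟩ := IsPGroup.iff_card.mp hVp
      obtain ⟨b, hb⟩ := IsPGroup.iff_card.mp (hP₀p.to_le (zpowers_le.mpr hy2P))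
      rcases Nat.le_total b a with h | h
      · exact le_of_card_dvd (W := P₀) (zpowers_le.mpr hy2P) hVP₀
          (by rw [ha, hb]; exact pow_dvd_pow 2 h) (mem_zpowers _)
      · exfalso
        apply hyC
        rw [hmemC]
        intro v hv
        obtain ⟨i, hi⟩ := le_of_card_dvd (W := P₀) hVP₀ (zpowers_le.mpr hy2P)
          (by rw [ha, hb]; exact pow_dvd_pow 2 h) hv
        simp only at hi
        rw [← hi]
        exact ((((Commute.refl y).mul_right (Commute.refl y)).zpow_right i)).eq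
    -- an inner involution outside `V`, in another Sylow subgroup
    have hSCnc : ¬ IsCyclic SC := by
      intro hcyc'
      apply hCns
      let PC : Sylow 2 C := IsPGroup.toSylow (P := ((S : Subgroup G) ⊓ C).subgroupOf C)
        (hSCp.of_equiv (subgroupOfEquivOfLe inf_le_right).symm)
        (fun h => Nat.not_even_iff_odd.mpr (odd_relIndex S C) (even_iff_two_dvd.mpr h))
      have hPC : IsCyclic ↥(PC : Subgroup C) := by
        haveI := hcyc'
        exact isCyclic_of_surjective (subgroupOfEquivOfLe (H := SC) (K := C) inf_le_right).symm.toMonoidHom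
          (subgroupOfEquivOfLe (H := SC) (K := C) inf_le_right).symm.surjective
      have hmin : (Nat.card C).minFac = 2 := (Nat.minFac_eq_two_iff _).mpr
        (((show 2 ∣ 4 by norm_num).trans hV4).trans (Subgroup.card_dvd_of_le hVC))
      have hK := MonoidHom.ker_transferSylow_isComplement' PC
        (IsCyclic.normalizer_le_centralizer hmin hPC)
      set K := (MonoidHom.transferSylow PC (IsCyclic.normalizer_le_centralizer hmin hPC)).ker
      haveI : Group.IsSolvable K := hFT K (Nat.not_even_iff_odd.mp fun h =>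
        MonoidHom.not_dvd_card_ker_transferSylow PC _ h.two_dvd)
      haveI : Group.IsSolvable (C ⧸ K) := by
        haveI : Group.IsNilpotent ↥(PC : Subgroup C) := PC.2.isNilpotent
        haveI : Group.IsSolvable ↥(PC : Subgroup C) := inferInstance
        exact Group.isSolvable_of_surjective
          (f := (QuotientGroup.mk' K).comp (PC : Subgroup C).subtype) (fun c => by
            obtain ⟨c, rfl⟩ := QuotientGroup.mk'_surjective K c
            obtain ⟨⟨k, p⟩, rfl⟩ := hK.2 c
            refine ⟨p, ?_⟩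
            simp [QuotientGroup.eq_one_iff, (QuotientGroup.eq_one_iff (k : C)).mpr k.2])
      exact Group.isSolvable_of_ker_le_range K.subtype (QuotientGroup.mk' K) (by simp)
    obtain ⟨f, hfSC, hff, hfV, -⟩ := (cyclic_or_exists_involution hSCp
      (le_inf (hVS S) hVC) hV4 (fun v hv g hg => (hmemC g).mp hg.2 v hv) hz hzV).resolve_left hSCnc
    set t := g₁ * f * g₁⁻¹ with ht
    have htS : t ∈ (g₁ • S : Sylow 2 G) := by rw [Sylow.smul_def]; exact ⟨f, hfSC.1, rfl⟩
    have htV : t ∉ V := fun h => hfV (by simpa [ht, mul_assoc] using hVn.conj_mem _ h g₁⁻¹)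
    have ht2 : t * t = 1 := by
      rw [ht]
      calc g₁ * f * g₁⁻¹ * (g₁ * f * g₁⁻¹) = g₁ * (f * f) * g₁⁻¹ := by group
        _ = 1 := by rw [hff]; group
    obtain ⟨W, hWc, hVW, -, d, -, hdW⟩ := pair hC hVp hg₁S.symm hyS htS (hVS S) (hVS _)
      hy2V (ht2 ▸ one_mem V) (hnB y hyC) (hnA t ht2 htV)
    have h1 : d * y * d⁻¹ ∈ C := by
      have h2 := mul_mem (hWC W hWc hVW hdW) (hCn.conj_mem f hfSC.2 g₁)
      rw [← ht, inv_mul_cancel_right] at h2
      exact h2
    exact hyC (by simpa [mul_assoc] using hCn.conj_mem _ h1 d⁻¹)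
  · exact heV (hnoinv e he hee)

include hC hFT hns hO in
/-- Solvable normal subgroups are central cyclic 2-groups. -/
theorem le_pCore_of_isSolvable (N : Subgroup G) [N.Normal] (hN : Group.IsSolvable N) :
    N ≤ Cfsg.pCore 2 G := by
  classical
  haveI : Fact (Nat.Prime 2) := ⟨Nat.prime_two⟩
  set V := Cfsg.pCore 2 G with hV
  have hVc := pCore_le_center hC hFT hns hO
  by_contra hne
  obtain ⟨M, ⟨hMn, hMN, hMV⟩, hmin⟩ := Set.exists_min_image
    {M : Subgroup G | M.Normal ∧ M ≤ N ∧ ¬ M ≤ V} (fun M : Subgroup G => Nat.card M)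
    (Set.toFinite _) ⟨N, inferInstance, le_rfl, hne⟩
  haveI := hMn
  haveI hMs : Group.IsSolvable M :=
    haveI := hN
    Group.isSolvable_of_isSolvable_injective (Subgroup.inclusion_injective hMN)
  set D := (commutator M).map M.subtype with hD
  haveI hDn : D.Normal := Thompson.map_subtype_normal_of_characteristic M (commutator M)
  have hDV : D ≤ V := by
    by_contra hDV
    have h1 := hmin D ⟨hDn, (map_subtype_le _).trans hMN, hDV⟩
    have h2 : D = M := Subgroup.eq_of_le_of_card_ge (map_subtype_le _) h1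
    have hMbot : Nontrivial M := by
      rw [Subgroup.nontrivial_iff_ne_bot]
      exact fun h => hMV (h ▸ bot_le)
    refine (Group.IsSolvable.commutator_lt_top_of_nontrivial M).ne ?_
    apply Subgroup.map_injective M.subtype_injective
    rw [← MonoidHom.range_eq_map, Subgroup.range_subtype]
    exact h2
  -- `M` is nilpotent
  have hMnil : Group.IsNilpotent M := by
    refine AbelianNilpotentProduct.isNilpotent_of_commutator_central (B := M) ?_
    intro x hx b _
    rw [← Subgroup.map_subtype_commutator] at hx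
    exact Subgroup.mem_center_iff.mp (hVc (hDV hx)) b
  have hMF : M ≤ Cfsg.fittingSubgroup G := Fitting.le_fitting hMn hMnil
  apply hMV
  refine hMF.trans ?_
  rw [Fitting.fitting_eq_iSup_pCore]
  rintro x hx
  refine (iSup_le (α := Subgroup G) (a := V) fun p => ?_) hx
  obtain ⟨p, hp⟩ := p
  by_cases h2 : p = 2
  · subst h2; exact le_rfl
  · haveI := Fact.mk hp
    refine le_trans ?_ (bot_le (a := V))
    rw [← hO]
    refine Thompson.le_pPrimeCore (Thompson.instPCoreNormal) ?_
    obtain ⟨k, hk⟩ := IsPGroup.iff_card.mp (Thompson.isPGroup_pCore (p := p) (G := G))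
    rw [hk]
    exact ((Nat.coprime_primes hp Nat.prime_two).mpr h2).pow_left k

end Cfsg.Agent.CyclicInter17
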